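import Mathlib
import Groth.Prelude.Def_CohB1
import Groth.Agent.GrassPlucker.ProjPt
import Groth.Agent.GrassPlucker.Morphism
import Groth.Agent.Chow.Core

set_option autoImplicit false
set_option backward.isDefEq.respectTransparency false
set_option backward.isDefEq.respectTransparency.types false

/-!
Proper models of a field over an affine base separating finitely many elements and their inverses.
-/

universe u

open CategoryTheory CategoryTheory.Limits AlgebraicGeometry TopologicalSpace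

namespace Groth.Agent.HTopVPh

variable {M N : Scheme.{u}} {K : Type u} [Field K]

/-- Evaluation at a `K`-point lying in `U`. -/
noncomputable def ev (ξ : Spec (CommRingCat.of K) ⟶ M) (U : M.Opens) (h : ⊤ ≤ ξ ⁻¹ᵁ U) :
    Γ(M, U) →+* K :=
  (ξ.appLE U ⊤ h ≫ (Scheme.ΓSpecIso (CommRingCat.of K)).hom).hom

theorem ev_res (ξ : Spec (CommRingCat.of K) ⟶ M) {U V : M.Opens} (i : V ≤ U) (h : ⊤ ≤ ξ ⁻¹ᵁ V)
    (h' : ⊤ ≤ ξ ⁻¹ᵁ U) (a : Γ(M, U)) :
    ev ξ V h (M.presheaf.map (homOfLE i).op a) = ev ξ U h' a := by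
  have := Scheme.Hom.map_appLE ξ h (homOfLE i).op
  exact congrArg (fun φ => (Scheme.ΓSpecIso (CommRingCat.of K)).hom (φ a)) this

theorem ev_comp (ξ : Spec (CommRingCat.of K) ⟶ M) (q : M ⟶ N) (U : N.Opens)
    (h : ⊤ ≤ (ξ ≫ q) ⁻¹ᵁ U) (a : Γ(N, U)) :
    ev (ξ ≫ q) U h a = ev ξ (q ⁻¹ᵁ U) (by simpa using h) (q.app U a) := by
  have := Scheme.Hom.comp_appLE ξ q U ⊤ h
  exact congrArg (fun φ => (Scheme.ΓSpecIso (CommRingCat.of K)).hom (φ a)) this

/-- The elements of `K` regular near `t`. -/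
def Reg (ξ : Spec (CommRingCat.of K) ⟶ M) (t : M) : Set K :=
  {x | ∃ (U : M.Opens) (_ : t ∈ U) (h : ⊤ ≤ ξ ⁻¹ᵁ U), x ∈ Set.range (ev ξ U h)}

theorem reg_mono (ξ : Spec (CommRingCat.of K) ⟶ M) (q : M ⟶ N) (t : M) :
    Reg (ξ ≫ q) (q t) ⊆ Reg ξ t := by
  rintro x ⟨U, ht, h, a, rfl⟩
  exact ⟨q ⁻¹ᵁ U, ht, by simpa using h, q.app U a, (ev_comp ξ q U h a).symm⟩

theorem mem_reg_of_chart (ξ : Spec (CommRingCat.of K) ⟶ M) {A : CommRingCat.{u}} (j : Spec A ⟶ M)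
    [IsOpenImmersion j] (ψ : A ⟶ CommRingCat.of K) (hj : Spec.map ψ ≫ j = ξ) (t : M)
    (ht : t ∈ Set.range j) (a : A) : ψ a ∈ Reg ξ t := by
  subst hj
  have h : ⊤ ≤ (Spec.map ψ ≫ j) ⁻¹ᵁ j.opensRange := by simp
  refine ⟨j.opensRange, ht, h, ?_⟩
  have htop : ⊤ ≤ j ⁻¹ᵁ j.opensRange := by simp
  have hiso : IsIso (j.appLE j.opensRange ⊤ htop) := by
    rw [Scheme.Hom.appLE]
    have hpre : j ⁻¹ᵁ j.opensRange = ⊤ := top_le_iff.mp htop
    haveI : IsIso (j.app j.opensRange) := j.isIso_app j.opensRange le_rfl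
    haveI : IsIso ((homOfLE htop).op) := ⟨(homOfLE hpre.le).op, rfl, rfl⟩
    infer_instance
  refine ⟨inv (j.appLE j.opensRange ⊤ htop) ((Scheme.ΓSpecIso A).inv a), ?_⟩
  have e : (Spec.map ψ ≫ j).appLE j.opensRange ⊤ h =
      j.appLE j.opensRange ⊤ htop ≫ (Spec.map ψ).appTop := by
    rw [Scheme.Hom.appTop, Scheme.Hom.app_eq_appLE]
    exact (Scheme.Hom.appLE_comp_appLE _ _ _ _ _ _ _).symm
  show ((Spec.map ψ ≫ j).appLE j.opensRange ⊤ h ≫ (Scheme.ΓSpecIso (CommRingCat.of K)).hom) _ = _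
  rw [e, Category.assoc, Scheme.ΓSpecIso_naturality ψ]
  simp only [CommRingCat.comp_apply, IsIso.inv_hom_id_apply]
  simp

/-- The point `(1 : x)` of the projective line, and regularity of `x` or `x⁻¹` near every point. -/
theorem exists_line (T : Scheme.{u}) (θ : Spec (CommRingCat.of K) ⟶ T) (x : K) :
    ∃ (P : Scheme.{u}) (π : P ⟶ T) (ξ : Spec (CommRingCat.of K) ⟶ P),
      IsProper π ∧ ξ ≫ π = θ ∧ ∀ t, x ∈ Reg ξ t ∨ x⁻¹ ∈ Reg ξ t := by
  open GrassPlucker in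
  by_cases hx : x = 0
  · refine ⟨T, 𝟙 T, θ, inferInstance, Category.comp_id _, fun t => Or.inl ?_⟩
    exact ⟨⊤, trivial, by simp, 0, by rw [map_zero, hx]⟩
  let p : Fin 2 → K := ![1, x]
  have hp0 : p 0 = 1 := rfl
  have hp1 : p 1 = x := rfl
  let ξ : Spec (CommRingCat.of K) ⟶ CohB1.ProjSpaceOver 1 T :=
    pullback.lift (pt p 0 (by rw [hp0]; exact isUnit_one)) θ (specULiftZIsTerminal.hom_ext _ _)
  refine ⟨_, CohB1.ProjSpaceOver.toBase 1 T, ξ, Groth.Agent.Chow.isProper_toBase 1 T,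
    pullback.lift_snd _ _ _, fun t => ?_⟩
  let pr : CohB1.ProjSpaceOver 1 T ⟶ CohB1.ProjSpace 1 (ULift.{u} ℤ) := pullback.fst _ _
  have hξ : ξ ≫ pr = pt p 0 (by rw [hp0]; exact isUnit_one) := pullback.lift_fst _ _ _
  have key : ∀ i j : Fin 2, ∀ q : Fin 2 → K, (hi : q i = 1) → pt q i (hi ▸ isUnit_one) = ξ ≫ pr →
      pr t ∈ Proj.basicOpen (Gr.{u} 1) (MvPolynomial.X i : Poly.{u} 1) → q j ∈ Reg ξ t := by
    intro i j q hi hq ht
    obtain ⟨z, hz⟩ := exists_locPt_eq q i j hi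
    refine reg_mono ξ pr t (hz ▸ ?_)
    rw [← hq]
    refine mem_reg_of_chart _ (Proj.awayι (Gr.{u} 1) (MvPolynomial.X i) (X_mem i) one_pos) _ rfl _ ?_ z
    rw [← Scheme.Hom.coe_opensRange, Proj.opensRange_awayι]
    exact ht
  have hcov : pr t ∈ (⨆ i : Fin 2, Proj.basicOpen (Gr.{u} 1) (MvPolynomial.X i : Poly.{u} 1)) := by
    rw [GrassPlucker.iSup_basicOpen_X]
    trivial
  obtain ⟨i, hi⟩ := Opens.mem_iSup.mp hcov
  fin_cases i
  · exact Or.inl (hp1 ▸ key 0 1 p hp0 hξ.symm hi)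
  · refine Or.inr ?_
    let q : Fin 2 → K := fun k => x⁻¹ * p k
    have hq1 : q 1 = 1 := by simp [q, hp1, hx]
    have hq0 : q 0 = x⁻¹ := by simp [q, hp0]
    refine hq0 ▸ key 1 0 q hq1 ?_ hi
    rw [hξ]
    exact (pt_smul p 1 (by rw [hp1]; exact isUnit_iff_ne_zero.mpr hx) (isUnit_iff_ne_zero.mpr (inv_ne_zero hx))).trans
      (pt_eq _ _ _ _ _)

theorem exists_sep (T : Scheme.{u}) (θ : Spec (CommRingCat.of K) ⟶ T) (S : Finset K) :
    ∃ (P : Scheme.{u}) (π : P ⟶ T) (ξ : Spec (CommRingCat.of K) ⟶ P),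
      IsProper π ∧ ξ ≫ π = θ ∧ ∀ x ∈ S, ∀ t, x ∈ Reg ξ t ∨ x⁻¹ ∈ Reg ξ t := by
  classical
  induction S using Finset.induction_on with
  | empty => exact ⟨T, 𝟙 T, θ, inferInstance, Category.comp_id _, by simp⟩
  | insert a S ha ih =>
    obtain ⟨P₁, π₁, ξ₁, h₁, e₁, r₁⟩ := ih
    obtain ⟨P₂, π₂, ξ₂, h₂, e₂, r₂⟩ := exists_line T θ a
    refine ⟨pullback π₁ π₂, pullback.fst _ _ ≫ π₁, pullback.lift ξ₁ ξ₂ (e₁.trans e₂.symm),
      inferInstance, by rw [pullback.lift_fst_assoc, e₁], fun x hx t => ?_⟩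
    rcases Finset.mem_insert.mp hx with rfl | hx
    · have h := r₂ (pullback.snd π₁ π₂ t)
      rw [← pullback.lift_snd ξ₁ ξ₂ (e₁.trans e₂.symm)] at h
      exact h.imp (fun h' => reg_mono _ _ t h') (fun h' => reg_mono _ _ t h')
    · have h := r₁ x hx (pullback.fst π₁ π₂ t)
      rw [← pullback.lift_fst ξ₁ ξ₂ (e₁.trans e₂.symm)] at h
      exact h.imp (fun h' => reg_mono _ _ t h') (fun h' => reg_mono _ _ t h')

/-- A valuation centred at every point of a proper model separating `S`, every element of `S` in it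
being regular there. -/
theorem exists_model (T : Scheme.{u}) [IsAffine T] (θ : Spec (CommRingCat.of K) ⟶ T) (S : Finset K) :
    ∃ (M : Scheme.{u}) (π : M ⟶ T) (ξ : Spec (CommRingCat.of K) ⟶ M),
      IsProper π ∧ ξ ≫ π = θ ∧ ∀ t, ∃ W : ValuationSubring K,
        (∀ a : Γ(T, ⊤), ev θ ⊤ (by simp) a ∈ W) ∧
        ∀ s : Finset K, s ⊆ S → (∀ x ∈ s, x ∈ W) →
          ∃ (O : M.Opens) (hO : IsAffineOpen O) (_ : t ∈ O) (h : ⊤ ≤ ξ ⁻¹ᵁ O),
            Function.Injective (ev ξ O h) ∧ ∀ x ∈ s, x ∈ Set.range (ev ξ O h) := by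
  classical
  obtain ⟨P, π, ξ, hπ, e, hr⟩ := exists_sep T θ S
  haveI : QuasiCompact ξ := by
    haveI : QuasiCompact (ξ ≫ π) := inferInstance
    exact QuasiCompact.of_comp ξ π
  refine ⟨ξ.image, ξ.imageι ≫ π, ξ.toImage, inferInstance,
    by rw [ξ.toImage_imageι_assoc, e], fun t => ?_⟩
  let ξ' := ξ.toImage
  have htop : ∀ (U : ξ.image.Opens), (U : Set ξ.image).Nonempty → ⊤ ≤ ξ' ⁻¹ᵁ U := fun U hU => by
    rintro z -
    obtain ⟨z', hz'⟩ := ξ'.denseRange.exists_mem_open U.2 hU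
    rwa [Subsingleton.elim z z']
  -- small affine neighbourhoods with injective evaluation
  have small : ∀ U : ξ.image.Opens, t ∈ U → ∃ (O : ξ.image.Opens) (_ : IsAffineOpen O) (_ : t ∈ O)
      (h : ⊤ ≤ ξ' ⁻¹ᵁ O), O ≤ U ∧ Function.Injective (ev ξ' O h) := by
    intro U htU
    obtain ⟨V, hV, hVU⟩ := ξ.imageι.isEmbedding.isInducing.isOpen_iff.mp U.2
    obtain ⟨A, hA, htA, hAV⟩ := exists_isAffineOpen_mem_and_subset (x := ξ.imageι t)
      (U := (⟨V, hV⟩ : P.Opens)) (hVU.ge htU)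
    have h : ⊤ ≤ ξ' ⁻¹ᵁ (ξ.imageι ⁻¹ᵁ A) := htop _ ⟨t, htA⟩
    refine ⟨ξ.imageι ⁻¹ᵁ A, hA.preimage _, htA, h, fun y hy => hVU.le (hAV hy), ?_⟩
    have hinj := ξ.toImage_app_injective ⟨A, hA⟩
    have e1 : ξ'.appLE (ξ.imageι ⁻¹ᵁ A) ⊤ h = ξ'.app (ξ.imageι ⁻¹ᵁ A) ≫
        (Spec (CommRingCat.of K)).presheaf.map (homOfLE h).op := rfl
    haveI : IsIso ((homOfLE h).op) := ⟨(homOfLE le_top).op, rfl, rfl⟩
    have hb : Function.Injective ((Spec (CommRingCat.of K)).presheaf.map (homOfLE h).op) :=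
      (ConcreteCategory.bijective_of_isIso _).injective
    intro a b hab
    refine hinj (hb ?_)
    have := (ConcreteCategory.bijective_of_isIso
      (Scheme.ΓSpecIso (CommRingCat.of K)).hom).injective hab
    rw [e1] at this
    exact this
  -- each element of `S`: a chart where it or its inverse is regular
  have hS : ∀ x : {x // x ∈ S}, ∃ (U : ξ.image.Opens) (_ : t ∈ U) (h : ⊤ ≤ ξ' ⁻¹ᵁ U) (a : Γ(ξ.image, U)),
      ev ξ' U h a = x.1 ∨ ev ξ' U h a = x.1⁻¹ := by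
    intro x
    have := hr x.1 x.2 (ξ.imageι t)
    have e2 : ∀ y : K, y ∈ Reg ξ (ξ.imageι t) → y ∈ Reg (ξ.toImage ≫ ξ.imageι) (ξ.imageι t) :=
      fun y hy => (congrArg (fun z => y ∈ Reg z (ξ.imageι t)) ξ.toImage_imageι).mpr hy
    rcases this.imp (e2 _) (e2 _) with h' | h'
    · obtain ⟨U, hU, h, a, ha⟩ := reg_mono _ _ t h'
      exact ⟨U, hU, h, a, Or.inl ha⟩
    · obtain ⟨U, hU, h, a, ha⟩ := reg_mono _ _ t h'
      exact ⟨U, hU, h, a, Or.inr ha⟩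
  choose U htU hU a ha using hS
  let U₀ : ξ.image.Opens := Finset.univ.inf U
  have htU₀ : t ∈ U₀ := by
    show t ∈ ((Finset.univ.inf U : ξ.image.Opens) : Set ξ.image)
    rw [Opens.coe_finset_inf, Finset.inf_set_eq_iInter]
    simpa using htU
  obtain ⟨O, hO, htO, h, hOU, hinj⟩ := small U₀ htU₀
  have hle : ∀ x, O ≤ U x := fun x => hOU.trans (Finset.inf_le (Finset.mem_univ x))
  let r : ∀ x, Γ(ξ.image, O) := fun x => ξ.image.presheaf.map (homOfLE (hle x)).op (a x)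
  have hev : ∀ x, ev ξ' O h (r x) = ev ξ' (U x) (hU x) (a x) := fun x => ev_res ξ' (hle x) h (hU x) (a x)
  let e0 := ev ξ' O h
  let P₀ : Ideal Γ(ξ.image, O) := (hO.primeIdealOf ⟨t, htO⟩).asIdeal
  have hI : P₀.map e0.rangeRestrict ≠ ⊤ := by
    intro htop'
    obtain ⟨b, hb, hb1⟩ := (Ideal.mem_map_iff_of_surjective _ e0.rangeRestrict_surjective).mp
      ((Ideal.eq_top_iff_one _).mp htop')
    exact (hO.primeIdealOf ⟨t, htO⟩).2.ne_top ((Ideal.eq_top_iff_one _).mpr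
      (hinj (show e0 b = e0 1 from (congrArg Subtype.val hb1).trans (map_one e0).symm) ▸ hb))
  obtain ⟨W, hW, hWn⟩ := Ideal.image_subset_nonunits_valuationSubring _ hI
  refine ⟨W, fun b => ?_, fun s hsS hsW => ?_⟩
  · have h₀ : ⊤ ≤ ξ' ⁻¹ᵁ ((ξ.imageι ≫ π) ⁻¹ᵁ ⊤) := by simp
    have hO' : O ≤ (ξ.imageι ≫ π) ⁻¹ᵁ ⊤ := by simp
    have : ev θ ⊤ (by simp) b = e0 (ξ.image.presheaf.map (homOfLE hO').op ((ξ.imageι ≫ π).app ⊤ b)) := by
      show _ = ev ξ' O h _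
      rw [ev_res ξ' hO' h h₀, ← ev_comp ξ' _ ⊤ (by simp)]
      have e' : ξ' ≫ ξ.imageι ≫ π = θ := by rw [ξ.toImage_imageι_assoc, e]
      congr 2
      · exact e'.symm
    rw [this]
    exact hW ⟨_, rfl⟩
  · have key : ∀ x : {x // x ∈ S}, x.1 ∈ s → e0 (r x) = x.1⁻¹ → x.1 ≠ 0 → r x ∉ P₀ := by
      intro x hxs hxe hx0 hmem
      have hn : x.1⁻¹ ∈ W.nonunits :=
        hWn ⟨e0.rangeRestrict (r x), Ideal.mem_map_of_mem _ hmem, hxe⟩
      exact absurd (hsW x.1 hxs) (fun hxW => by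
        obtain ⟨_, h2⟩ := ValuationSubring.mem_nonunits_iff_exists_mem_maximalIdeal.mp hn
        exact h2 (IsUnit.of_mul_eq_one ⟨x.1, hxW⟩ (Subtype.ext (inv_mul_cancel₀ hx0))))
    let T₀ := Finset.univ.filter (fun x : {x // x ∈ S} => x.1 ∈ s ∧ e0 (r x) = x.1⁻¹ ∧ x.1 ≠ 0)
    let f : Γ(ξ.image, O) := ∏ x ∈ T₀, r x
    have hf : f ∉ P₀ := fun hm => by
      obtain ⟨x, hx, hxP⟩ := ((hO.primeIdealOf ⟨t, htO⟩).2.prod_mem_iff).mp hm
      obtain ⟨-, h1, h2, h3⟩ := Finset.mem_filter.mp hx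
      exact key x h1 h2 h3 hxP
    have htf : t ∈ ξ.image.basicOpen f := by
      have h' : hO.primeIdealOf ⟨t, htO⟩ ∈ PrimeSpectrum.basicOpen f := hf
      rw [← hO.fromSpec_preimage_basicOpen] at h'
      have h'' : hO.fromSpec (hO.primeIdealOf ⟨t, htO⟩) ∈ ξ.image.basicOpen f := h'
      rwa [hO.fromSpec_primeIdealOf] at h''
    obtain ⟨O', hO', htO', h', hle', hinj'⟩ := small (ξ.image.basicOpen f) htf
    have hO'O : O' ≤ O := hle'.trans (ξ.image.basicOpen_le f)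
    refine ⟨O', hO', htO', h', hinj', fun x hx => ?_⟩
    have hres : ∀ y, ev ξ' O' h' (ξ.image.presheaf.map (homOfLE hO'O).op y) = e0 y := fun y =>
      ev_res ξ' hO'O h' h y
    rcases ha ⟨x, hsS hx⟩ with hx' | hx'
    · exact ⟨_, (hres (r ⟨x, hsS hx⟩)).trans ((hev _).trans hx')⟩
    · by_cases hx0 : x = 0
      · exact ⟨0, by rw [map_zero, hx0]⟩
      have hmem : (⟨x, hsS hx⟩ : {x // x ∈ S}) ∈ T₀ :=
        Finset.mem_filter.mpr ⟨Finset.mem_univ _, hx, (hev _).trans hx', hx0⟩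
      have hu : IsUnit (ξ.image.presheaf.map (homOfLE hO'O).op (r ⟨x, hsS hx⟩)) := by
        refine isUnit_of_dvd_unit (map_dvd _ (Finset.dvd_prod_of_mem r hmem)) ?_
        have hu' := ξ.image.toRingedSpace.isUnit_res_basicOpen f
        have := hu'.map (ξ.image.presheaf.map (homOfLE hle').op).hom
        have e3 : ξ.image.presheaf.map (homOfLE hO'O).op f =
            ξ.image.presheaf.map (homOfLE hle').op
              (ξ.image.presheaf.map (homOfLE (ξ.image.basicOpen_le f)).op f) := by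
          rw [← CommRingCat.comp_apply, ← Functor.map_comp]
          rfl
        exact (congrArg IsUnit e3).mpr this
      obtain ⟨v, hv⟩ := hu
      refine ⟨(v⁻¹ : Γ(ξ.image, O')ˣ), ?_⟩
      rw [map_units_inv, hv, hres, (hev _).trans hx', inv_inv]

end Groth.Agent.HTopVPh
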