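import Mathlib
import Groth.Agent.HTopVPh.Model
import Groth.Agent.SubtrLib.AIC
import Groth.Agent.SubtrLib.UltraLim
import Groth.Agent.HTopV.PhExtend

set_option autoImplicit false
set_option backward.isDefEq.respectTransparency false
set_option backward.isDefEq.respectTransparency.types false

/-!
A subtrusive morphism of finite type to a Noetherian affine scheme has local sections over a proper
surjective scheme.
-/

universe u

open CategoryTheory CategoryTheory.Limits AlgebraicGeometry TopologicalSpace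

namespace Groth.Agent.HTopVPh

theorem isAIC_valuationSubring {K : Type u} [Field K] [IsAlgClosed K] (W : ValuationSubring K) :
    SubtrLib.IsAIC W := by
  intro g hg hd
  obtain ⟨x, hx⟩ := IsAlgClosed.exists_root (g.map (algebraMap W K)) (by
    rw [Polynomial.degree_map_eq_of_injective (IsFractionRing.injective W K),
      Polynomial.degree_eq_natDegree hg.ne_zero]
    exact_mod_cast hd.ne')
  rw [Polynomial.IsRoot, Polynomial.eval_map] at hx
  obtain ⟨y, rfl⟩ := IsIntegrallyClosed.algebraMap_eq_of_integral (R := W) (K := K) ⟨g, hg, hx⟩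
  refine ⟨y, (IsFractionRing.injective W K) ?_⟩
  rw [map_zero, ← hx, Polynomial.eval₂_at_apply]

/-- Compactness of spaces of valuation rings. -/
theorem exists_finite_cover {K : Type u} [Field K] (A : Set K)
    (s : {W : ValuationSubring K // A ⊆ W} → Finset K)
    (hs : ∀ W, ∀ x ∈ s W, x ∈ W.1) :
    ∃ F : Finset {W : ValuationSubring K // A ⊆ W},
      ∀ W : ValuationSubring K, A ⊆ W → ∃ i ∈ F, ∀ x ∈ s i, x ∈ W := by
  classical
  by_contra hcon
  have hcon' : ∀ F : Finset {W : ValuationSubring K // A ⊆ W},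
      ∃ W : ValuationSubring K, A ⊆ W ∧ ∀ i ∈ F, ¬ ∀ x ∈ s i, x ∈ W := fun F => by
    by_contra hF
    refine hcon ⟨F, fun W hA => ?_⟩
    by_contra hW
    exact hF ⟨W, hA, fun i hi hx => hW ⟨i, hi, hx⟩⟩
  choose W hA hW using hcon'
  let U : Ultrafilter (Finset {W : ValuationSubring K // A ⊆ W}) :=
    Ultrafilter.of Filter.atTop
  let R : Subring K :=
    { carrier := {x | ∀ᶠ F in (U : Filter _), x ∈ W F}
      mul_mem' := fun ha hb => by filter_upwards [ha, hb] with F h1 h2 using mul_mem h1 h2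
      one_mem' := Filter.Eventually.of_forall fun F => one_mem _
      add_mem' := fun ha hb => by filter_upwards [ha, hb] with F h1 h2 using add_mem h1 h2
      zero_mem' := Filter.Eventually.of_forall fun F => zero_mem _
      neg_mem' := fun ha => by filter_upwards [ha] with F h using neg_mem h }
  let V : ValuationSubring K :=
    ValuationSubring.ofSubring R fun x => by
      rcases Ultrafilter.em U (fun F => x ∈ W F) with h | h
      · exact Or.inl h
      · refine Or.inr ?_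
        show ∀ᶠ F in (U : Filter _), x⁻¹ ∈ W F
        filter_upwards [h] with F hF using ((W F).mem_or_inv_mem x).resolve_left hF
  have hV : A ⊆ V := fun a ha => Filter.Eventually.of_forall fun F => hA F ha
  have h1 : ∀ᶠ F in (U : Filter _), ∀ x ∈ s ⟨V, hV⟩, x ∈ W F :=
    (Filter.eventually_all_finset _).mpr fun x hx => hs ⟨V, hV⟩ x hx
  have h2 : ∀ᶠ F in (U : Filter (Finset {W : ValuationSubring K // A ⊆ W})),
      ({(⟨V, hV⟩ : {W : ValuationSubring K // A ⊆ W})} : Finset {W : ValuationSubring K // A ⊆ W}) ≤ F :=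
    Ultrafilter.of_le _ (Filter.eventually_ge_atTop _)
  obtain ⟨F, hF1, hF2⟩ := (h1.and h2).exists
  exact hW F _ (hF2 (Finset.mem_singleton_self _)) hF1

theorem specMap_ev_fromSpec {M : Scheme.{u}} {K : Type u} [Field K]
    (ξ : Spec (CommRingCat.of K) ⟶ M) {O : M.Opens} (hO : IsAffineOpen O) (h : ⊤ ≤ ξ ⁻¹ᵁ O) :
    Spec.map (CommRingCat.ofHom (ev ξ O h)) ≫ hO.fromSpec = ξ := by
  show Spec.map (ξ.appLE O ⊤ h ≫ (Scheme.ΓSpecIso (CommRingCat.of K)).hom) ≫ hO.fromSpec = ξ
  rw [Spec.map_comp, Category.assoc,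
    IsAffineOpen.SpecMap_appLE_fromSpec ξ hO (isAffineOpen_top _) h, IsAffineOpen.fromSpec_top,
    Scheme.isoSpec_Spec_inv, ← Category.assoc, ← Spec.map_comp]
  simp

theorem exists_component {R : CommRingCat.{u}} {X : Scheme.{u}} (f : X ⟶ Spec R)
    [LocallyOfFiniteType f] (hf : Subtr.UnivSSubtrusive f) {K : Type u} [Field K] [IsAlgClosed K]
    (φ : R ⟶ CommRingCat.of K) :
    ∃ (M : Scheme.{u}) (π : M ⟶ Spec R), IsProper π ∧
      Spec.map φ (IsLocalRing.closedPoint K) ∈ Set.range π ∧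
      ∀ t : M, ∃ (O : M.Opens) (_ : t ∈ O) (h : (O : Scheme.{u}) ⟶ X), h ≫ f = O.ι ≫ π := by
  classical
  let A : Set K := Set.range φ.hom
  have hsec : ∀ W : {W : ValuationSubring K // A ⊆ W}, ∃ (s : Finset K) (_ : ∀ x ∈ s, x ∈ W.1)
      (O : X.Opens) (hO : IsAffineOpen O) (α : R ⟶ Γ(X, O)) (σ : Γ(X, O) →+* K),
      Spec.map α = hO.fromSpec ≫ f ∧ σ.comp α.hom = φ.hom ∧
        σ.range ≤ Subring.closure (A ∪ (s : Set K)) := by
    intro W
    let φW : R ⟶ CommRingCat.of W.1 := CommRingCat.ofHom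
      (φ.hom.codRestrict W.1.toSubring fun r => W.2 ⟨r, rfl⟩)
    obtain ⟨a, ha⟩ := SubtrLib.exists_section f hf (isAIC_valuationSubring W.1) (Spec.map φW)
    obtain ⟨O, hO, haO, -⟩ := exists_isAffineOpen_mem_and_subset
      (x := a (IsLocalRing.closedPoint W.1)) (U := (⊤ : X.Opens)) trivial
    obtain ⟨τ, hτ⟩ := SubtrLib.exists_ringHom_of_closedPoint_mem a hO haO
    obtain ⟨α, hα⟩ := Spec.map_surjective (hO.fromSpec ≫ f)
    have hcomp : α ≫ CommRingCat.ofHom τ = φW := by
      apply Spec.map_injective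
      rw [Spec.map_comp, hα, ← ha, ← Category.assoc, hτ]
    haveI : LocallyOfFiniteType (Spec.map α) := by rw [hα]; infer_instance
    have hft : α.hom.FiniteType := (HasRingHomProperty.Spec_iff (P := @LocallyOfFiniteType)).mp ‹_›
    letI := α.hom.toAlgebra
    obtain ⟨g, hg⟩ := (hft : Algebra.FiniteType R Γ(X, O)).out
    let σ : Γ(X, O) →+* K := W.1.toSubring.subtype.comp τ
    have hσ : σ.comp α.hom = φ.hom := by
      ext r
      exact congrArg Subtype.val (RingHom.congr_fun (congrArg CommRingCat.Hom.hom hcomp) r)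
    refine ⟨g.image σ, fun x hx => ?_, O, hO, α, σ, hα, hσ, ?_⟩
    · obtain ⟨y, -, rfl⟩ := Finset.mem_image.mp hx
      exact (τ y).2
    · rintro _ ⟨y, rfl⟩
      have hy : y ∈ Algebra.adjoin R (g : Set Γ(X, O)) := by rw [hg]; trivial
      induction hy using Algebra.adjoin_induction with
      | mem z hz => exact Subring.subset_closure (Or.inr (Finset.mem_image_of_mem σ hz))
      | algebraMap r => exact Subring.subset_closure (Or.inl ⟨r, (RingHom.congr_fun hσ r).symm⟩)
      | add a b _ _ h1 h2 => rw [map_add]; exact add_mem h1 h2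
      | mul a b _ _ h1 h2 => rw [map_mul]; exact mul_mem h1 h2
  choose s hs O hO α σ hα hσ hrange using hsec
  obtain ⟨F, hF⟩ := exists_finite_cover A s hs
  obtain ⟨M, π, ξ, hπ, hξ, hW⟩ := exists_model (Spec R) (Spec.map φ) (F.biUnion s)
  refine ⟨M, π, hπ, ⟨ξ (IsLocalRing.closedPoint K), by rw [← Scheme.Hom.comp_apply, hξ]⟩, fun t => ?_⟩
  obtain ⟨W, hWA, hWs⟩ := hW t
  have hAW : A ⊆ W := by
    rintro _ ⟨r, rfl⟩
    have h := hWA ((Scheme.ΓSpecIso R).inv r)
    have e : ev (Spec.map φ) ⊤ (by simp) ((Scheme.ΓSpecIso R).inv r) = φ.hom r := by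
      show ((Scheme.ΓSpecIso R).inv ≫ (Spec.map φ).appLE ⊤ ⊤ _ ≫
        (Scheme.ΓSpecIso (CommRingCat.of K)).hom) r = φ.hom r
      congr 1
      rw [show (Spec.map φ).appLE ⊤ ⊤ (by simp) = (Spec.map φ).appTop by
        rw [Scheme.Hom.appTop, Scheme.Hom.app_eq_appLE]; rfl, Scheme.ΓSpecIso_naturality]
      simp
    rwa [← e]
  obtain ⟨i, hi, hiW⟩ := hF W hAW
  obtain ⟨U, hU, htU, h, hinj, hev⟩ := hWs (s i) (Finset.subset_biUnion_of_mem s hi) hiW
  obtain ⟨β, hβ⟩ := Spec.map_surjective (hU.fromSpec ≫ π)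
  have hevβ : β ≫ CommRingCat.ofHom (ev ξ U h) = φ := by
    apply Spec.map_injective
    rw [Spec.map_comp, hβ, ← Category.assoc, specMap_ev_fromSpec, hξ]
  have hle : (σ i).range ≤ (ev ξ U h).range := by
    refine (hrange i).trans (Subring.closure_le.mpr ?_)
    rintro x (⟨r, rfl⟩ | hx)
    · exact ⟨β r, RingHom.congr_fun (congrArg CommRingCat.Hom.hom hevβ) r⟩
    · exact hev x hx
  let e := RingEquiv.ofBijective (ev ξ U h).rangeRestrict
    ⟨fun a b hab => hinj (congrArg Subtype.val hab), (ev ξ U h).rangeRestrict_surjective⟩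
  let g : Γ(X, O i) ⟶ Γ(M, U) :=
    CommRingCat.ofHom (e.symm.toRingHom.comp ((σ i).codRestrict _ fun y => hle ⟨y, rfl⟩))
  have hg : α i ≫ g = β := by
    refine CommRingCat.hom_ext (RingHom.ext fun r => hinj ?_)
    refine Eq.trans ?_ ((RingHom.congr_fun (hσ i) r).trans
      (RingHom.congr_fun (congrArg CommRingCat.Hom.hom hevβ) r).symm)
    exact congrArg Subtype.val (e.apply_symm_apply _)
  refine ⟨U, htU, hU.isoSpec.hom ≫ Spec.map g ≫ (hO i).fromSpec, ?_⟩
  rw [Category.assoc, Category.assoc, ← hα i, ← Spec.map_comp, hg, hβ, ← Category.assoc,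
    IsAffineOpen.isoSpec_hom_fromSpec]

/-- Local sections over a proper surjective scheme. -/
theorem exists_proper_locSection {R : CommRingCat.{u}} [IsNoetherianRing R] {X : Scheme.{u}}
    (f : X ⟶ Spec R) [LocallyOfFiniteType f] (hf : Subtr.UnivSSubtrusive f) :
    ∃ (Y : Scheme.{u}) (g : Y ⟶ Spec R), IsProper g ∧ Surjective g ∧
      ∀ y : Y, ∃ (O : Scheme.{u}) (o : O ⟶ Y), IsOpenImmersion o ∧ y ∈ Set.range o ∧
        ∃ h : O ⟶ X, h ≫ f = o ≫ g := by
  classical
  let κ : Type u := {p : Ideal R // p ∈ minimalPrimes R}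
  haveI : Finite κ := (minimalPrimes.finite_of_isNoetherianRing R).to_subtype
  haveI hp : ∀ p : κ, p.1.IsPrime := fun p => p.2.1.1
  let φ : ∀ p : κ, R ⟶ CommRingCat.of (AlgebraicClosure (FractionRing (R ⧸ p.1))) := fun p =>
    CommRingCat.ofHom ((algebraMap (FractionRing (R ⧸ p.1)) (AlgebraicClosure _)).comp
      ((algebraMap (R ⧸ p.1) (FractionRing (R ⧸ p.1))).comp (Ideal.Quotient.mk p.1)))
  choose M π hπ hmem hloc using fun p => exists_component f hf (φ p)
  obtain ⟨Y, g, hg, hz, hj⟩ := HTopV.exists_proper_union κ M π hπ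
  refine ⟨Y, g, hg, ⟨fun t => ?_⟩, fun y => ?_⟩
  · obtain ⟨p, hpmem, hple⟩ := Ideal.exists_minimalPrimes_le (I := ⊥) (J := t.asIdeal) bot_le
    obtain ⟨j, hj'⟩ := hj ⟨p, hpmem⟩
    haveI := hπ ⟨p, hpmem⟩
    obtain ⟨m, hm⟩ := hmem ⟨p, hpmem⟩
    haveI : p.IsPrime := hpmem.1.1
    have hker : (Spec.map (φ ⟨p, hpmem⟩) (IsLocalRing.closedPoint _)).asIdeal = p := by
      ext r
      show (φ ⟨p, hpmem⟩).hom r ∈ IsLocalRing.maximalIdeal _ ↔ _
      simp only [φ, IsLocalRing.mem_maximalIdeal, mem_nonunits_iff, isUnit_iff_ne_zero, not_not,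
        CommRingCat.hom_ofHom, RingHom.comp_apply]
      exact (map_eq_zero_iff _ ((algebraMap (FractionRing (R ⧸ p)) (AlgebraicClosure _)).injective)).trans
        ((map_eq_zero_iff _ (IsFractionRing.injective (R ⧸ p) (FractionRing (R ⧸ p)))).trans
          Ideal.Quotient.eq_zero_iff_mem)
    obtain ⟨m', hm'⟩ := (π ⟨p, hpmem⟩).isClosedMap.isClosed_range.stableUnderSpecialization
      ((PrimeSpectrum.le_iff_specializes _ t).mp (hker.le.trans hple)) ⟨m, hm⟩
    exact ⟨j m', by rw [← Scheme.Hom.comp_apply, hj', hm']⟩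
  · obtain ⟨p, j, hjo, hjq, ⟨m, rfl⟩⟩ := hz y
    haveI := hjo
    obtain ⟨O, hmO, h, hh⟩ := hloc p m
    exact ⟨O, O.ι ≫ j, inferInstance,
      ⟨⟨m, hmO⟩, Scheme.Hom.comp_apply _ _ _⟩, h, by rw [hh, Category.assoc, hjq]⟩

end Groth.Agent.HTopVPh
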