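import Mathlib
import Groth.Prelude.Def_HTop
import Groth.Agent.HTopVPh.Noetherian
import Groth.Agent.SubtrLib.ValLift
import Groth.Agent.S14792

set_option autoImplicit false
set_option backward.isDefEq.respectTransparency false
set_option backward.isDefEq.respectTransparency.types false

/-!
For families locally of finite presentation, ph coverings and V coverings agree.
-/

universe w u

open CategoryTheory CategoryTheory.Limits AlgebraicGeometry TopologicalSpace

namespace Groth.Agent.HTopVPh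

theorem isVCover_of_isPhCover {T : Scheme.{u}} {E : PreZeroHypercover.{w} T} (h : HTop.IsPhCover E) :
    HTop.IsVCover E := fun U => by
  obtain ⟨F, hF, hFE⟩ := h.2 U
  exact ⟨F, ⟨hF.isAffine, hF.finite_index, hF.isAffine_obj, HTopV.hasValLift_of_isStandardPh hF⟩, hFE⟩

/-- A lifting family of finite presentation over an affine scheme is refined by a standard ph covering. -/
theorem exists_locRef {U : Scheme.{u}} [IsAffine U] {E : PreZeroHypercover.{w} U}
    (hlfp : ∀ i, LocallyOfFinitePresentation (E.f i)) {G : PreZeroHypercover.{0} U}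
    (hG : HTop.IsStandardV G) (hGE : HTop.RefinesOver (𝟙 U) G E) :
    ∃ (Y : Scheme.{u}) (g : Y ⟶ U), IsProper g ∧ Surjective g ∧ LocallyOfFinitePresentation g ∧
      HTopV.LocRef g E := by
  classical
  haveI := hG.finite_index
  choose i a ha using hGE
  have hfin : ∀ j, ∃ s : Finset (E.X (i j)).affineOpens,
      ∀ x : G.X j, ∃ A ∈ s, a j x ∈ (A : (E.X (i j)).Opens) := fun j => by
    haveI := hG.isAffine_obj j
    choose A hA hxA _ using fun x : G.X j =>
      exists_isAffineOpen_mem_and_subset (x := a j x) (U := (⊤ : (E.X (i j)).Opens)) trivial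
    obtain ⟨t, ht⟩ := isCompact_univ.elim_finite_subcover
      (fun x : G.X j => ((a j ⁻¹ᵁ A x : (G.X j).Opens) : Set (G.X j))) (fun x => (a j ⁻¹ᵁ A x).2)
      (fun x _ => Set.mem_iUnion.mpr ⟨x, hxA x⟩)
    refine ⟨t.image (fun x => ⟨A x, hA x⟩), fun x => ?_⟩
    obtain ⟨z, hz, hxz⟩ := Set.mem_iUnion₂.mp (ht (Set.mem_univ x))
    exact ⟨⟨A z, hA z⟩, Finset.mem_image_of_mem _ hz, hxz⟩
  choose s hs using hfin
  let κ : Type u := Σ j : ULift.{u} G.I₀, {A : (E.X (i j.down)).affineOpens // A ∈ s j.down}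
  let P : κ → Scheme.{u} := fun k => ((k.2.1 : (E.X (i k.1.down)).Opens) : Scheme.{u})
  let p : ∀ k, P k ⟶ U := fun k => (k.2.1 : (E.X (i k.1.down)).Opens).ι ≫ E.f (i k.1.down)
  haveI : Finite κ := inferInstance
  haveI : ∀ k, IsAffine (P k) := fun k => k.2.1.2
  let f : ∐ P ⟶ U := Sigma.desc p
  haveI : LocallyOfFinitePresentation f :=
    IsZariskiLocalAtSource.sigmaDesc fun k => by
      haveI := hlfp (i k.1.down)
      infer_instance
  haveI : IsAffine (∐ P) := inferInstance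
  have hlift : HTop.HasValLift (PreZeroHypercover.singleton.{u} (f ≫ U.isoSpec.hom)) := by
    intro V _ _ g
    obtain ⟨W, i1, i2, φ, hφ, j, g', hg'⟩ := hG.lift V (g ≫ U.isoSpec.inv)
    obtain ⟨A, hA, hxA⟩ := hs j (g' (IsLocalRing.closedPoint W))
    obtain ⟨l, hl⟩ := HTopV.exists_fac_of_closedPoint_mem (g' ≫ a j) (A : (E.X (i j)).Opens).ι (by
      rw [Scheme.Opens.range_ι]; exact hxA)
    let k : κ := ⟨⟨j⟩, ⟨A, hA⟩⟩
    refine ⟨W, i1, i2, φ, hφ, PUnit.unit, ((l : Spec W ⟶ P k) ≫ Sigma.ι P k : Spec W ⟶ ∐ P), ?_⟩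
    show ((l : Spec W ⟶ P k) ≫ Sigma.ι P k) ≫ Sigma.desc p ≫ U.isoSpec.hom = _
    rw [Category.assoc, Sigma.ι_desc_assoc]
    show l ≫ ((A : (E.X (i j)).Opens).ι ≫ E.f (i j)) ≫ U.isoSpec.hom = _
    rw [Category.assoc, reassoc_of% hl, reassoc_of% ha j]
    simp [reassoc_of% hg']
  haveI : IsAffineHom (f ≫ U.isoSpec.hom) := inferInstance
  obtain ⟨A₀, hA₀, X₀, f₀, q, hq, h1, h2, h3, hs₀⟩ :=
    (Groth.Agent.S14792.result Γ(U, ⊤) (f ≫ U.isoSpec.hom)).mp
      (SubtrLib.univSSubtrusive_of_hasValLift _ hlift)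
  haveI := h2
  haveI : Algebra.FiniteType ℤ A₀ := A₀.fg_iff_finiteType.mp hA₀
  haveI : IsNoetherianRing (CommRingCat.of A₀) := Algebra.FiniteType.isNoetherianRing ℤ A₀
  haveI : IsLocallyNoetherian (Spec (CommRingCat.of A₀)) := inferInstance
  haveI := h1
  obtain ⟨Y₀, g₀, hg₀, hgs₀, hloc⟩ := exists_proper_locSection f₀
    (SubtrLib.univSSubtrusive_of_univSubmersive f₀ hs₀)
  let b : U ⟶ Spec (CommRingCat.of A₀) :=
    U.isoSpec.hom ≫ Spec.map (CommRingCat.ofHom A₀.val.toRingHom)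
  haveI : LocallyOfFinitePresentation g₀ := inferInstance
  refine ⟨pullback g₀ b, pullback.snd g₀ b, inferInstance, inferInstance, inferInstance, fun y => ?_⟩
  obtain ⟨O, o, ho, ⟨z, hz⟩, h, hh⟩ := hloc (pullback.fst g₀ b y)
  haveI := ho
  obtain ⟨z₁, hz₁, -⟩ := Scheme.Pullback.exists_preimage_pullback
    (f := pullback.fst g₀ b) (g := o) y z hz.symm
  have hcomp : (pullback.snd (pullback.fst g₀ b) o ≫ h) ≫ f₀ =
      (pullback.fst (pullback.fst g₀ b) o ≫ pullback.snd g₀ b ≫ U.isoSpec.hom) ≫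
        Spec.map (CommRingCat.ofHom A₀.val.toRingHom) := by
    rw [Category.assoc, hh, ← pullback.condition_assoc, pullback.condition]
    simp [b]
  let l := hq.lift _ _ hcomp
  have hl : l ≫ f = pullback.fst (pullback.fst g₀ b) o ≫ pullback.snd g₀ b := by
    have := hq.lift_snd _ _ hcomp
    rw [← cancel_mono U.isoSpec.hom, Category.assoc, Category.assoc]
    exact this
  obtain ⟨k, v, hv⟩ := (sigmaOpenCover P).exists_eq (l z₁)
  haveI : IsOpenImmersion (Sigma.ι P k) := inferInstance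
  obtain ⟨z₂, hz₂, -⟩ := Scheme.Pullback.exists_preimage_pullback
    (f := l) (g := Sigma.ι P k) z₁ v hv.symm
  refine ⟨_, pullback.fst l (Sigma.ι P k) ≫ pullback.fst (pullback.fst g₀ b) o, inferInstance,
    ⟨z₂, by rw [Scheme.Hom.comp_apply, hz₂, hz₁]⟩, i k.1.down,
    pullback.snd l (Sigma.ι P k) ≫ (k.2.1 : (E.X (i k.1.down)).Opens).ι, ?_⟩
  have hk : (k.2.1 : (E.X (i k.1.down)).Opens).ι ≫ E.f (i k.1.down) = Sigma.ι P k ≫ f :=
    (Sigma.ι_desc p k).symm
  rw [Category.assoc, hk, ← pullback.condition_assoc, hl, Category.assoc]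

theorem isPhCover_of_isVCover {T : Scheme.{u}} {E : PreZeroHypercover.{w} T}
    (hlfp : ∀ i, LocallyOfFinitePresentation (E.f i)) (h : HTop.IsVCover E) : HTop.IsPhCover E := by
  refine ⟨fun i => by haveI := hlfp i; infer_instance, fun U => ?_⟩
  haveI : IsAffine (U : T.Opens) := U.2
  obtain ⟨G, hG, hGE⟩ := h U
  let E' : PreZeroHypercover.{w} ((U : T.Opens) : Scheme.{u}) := E.pullback₁ (U : T.Opens).ι
  have hlfp' : ∀ i, LocallyOfFinitePresentation (E'.f i) := fun i =>
    MorphismProperty.pullback_fst (P := @LocallyOfFinitePresentation) _ _ (hlfp i)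
  have hGE' : HTop.RefinesOver (𝟙 _) G E' := fun j => by
    obtain ⟨i, c, hc⟩ := hGE j
    refine ⟨i, pullback.lift (G.f j) c hc.symm, ?_⟩
    exact (pullback.lift_fst _ _ _).trans (Category.comp_id _).symm
  obtain ⟨Y, g, hg, hgs, -, hloc⟩ := exists_locRef hlfp' hG hGE'
  obtain ⟨F, hF, hFE⟩ := HTopV.exists_isStandardPh_of_locRef g hloc
  refine ⟨F, hF, fun m => ?_⟩
  obtain ⟨i, c, hc⟩ := hFE m
  refine ⟨i, c ≫ pullback.snd _ _, ?_⟩
  rw [Category.assoc, ← pullback.condition, ← Category.assoc]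
  refine congrArg (· ≫ _) ?_
  exact hc.trans (Category.comp_id _)

end Groth.Agent.HTopVPh
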