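import Mathlib
import Groth.Agent.HTopVPh.Cover
import Groth.Agent.LimModel.Affine
import Groth.Agent.S14785
import Groth.Agent.HTopV.Sheaf

set_option autoImplicit false
set_option backward.isDefEq.respectTransparency false
set_option backward.isDefEq.respectTransparency.types false

/-!
Standard h coverings of a cofiltered limit of affine schemes come from a stage.
-/

universe w u

open CategoryTheory CategoryTheory.Limits AlgebraicGeometry TopologicalSpace

namespace Groth.Agent.HTopVPh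

theorem exists_standardH_model {I : Type u} [SmallCategory I] [IsCofiltered I] (D : I ⥤ Scheme.{u})
    [∀ i, IsAffine (D.obj i)] (c : Cone D) (hc : IsLimit c) [IsAffine c.pt]
    (V : PreZeroHypercover.{w} c.pt) (hV : HTop.IsStandardH V) :
    ∃ (i : I) (W : PreZeroHypercover.{w} (D.obj i)), HTop.IsStandardH W ∧
      ∃ (σ : V.I₀ ≃ W.I₀) (e : ∀ j, V.X j ≅ pullback (c.π.app i) (W.f (σ j))),
        ∀ j, (e j).hom ≫ pullback.fst (c.π.app i) (W.f (σ j)) = V.f j := by
  classical
  haveI := hV.finite_index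
  haveI := hV.isAffine_obj
  haveI := hV.finitePresentation
  haveI : ∀ (a b : I) (m : a ⟶ b), IsAffineHom (D.map m) := fun _ _ _ => inferInstance
  choose i Xi fi g hXi hfi hsq using fun j => LimModel.exists_model_of_isAffine D c hc (V.f j)
  haveI := Fintype.ofFinite V.I₀
  obtain ⟨k, hk⟩ := IsCofiltered.inf_objs_exists (Finset.univ.image i)
  let a : ∀ j, k ⟶ i j := fun j => (hk (Finset.mem_image_of_mem i (Finset.mem_univ j))).some
  haveI := hXi
  haveI := hfi
  obtain ⟨n, ⟨eι⟩⟩ := Finite.exists_equiv_fin V.I₀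
  let κ : Type u := ULift.{u} (Fin n)
  let idx : κ → V.I₀ := fun m => eι.symm m.down
  let P : κ → Scheme.{u} := fun m => pullback (D.map (a (idx m))) (fi (idx m))
  haveI : ∀ m, IsAffine (P m) := fun m => inferInstanceAs (IsAffine (pullback _ _))
  let p : ∀ m, P m ⟶ D.obj k := fun m => pullback.fst _ _
  let f₀ : ∐ P ⟶ D.obj k := Sigma.desc p
  haveI : LocallyOfFinitePresentation f₀ := IsZariskiLocalAtSource.sigmaDesc fun m =>
    MorphismProperty.pullback_fst (P := @LocallyOfFinitePresentation) _ _ (hfi _)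
  -- the pulled back family is lifting at the limit
  have hsqk : ∀ j, IsPullback (pullback.lift (V.f j ≫ c.π.app k) (g j) (by
      rw [Category.assoc, c.w]; exact (hsq j).w.symm)) (V.f j)
      (pullback.fst (D.map (a j)) (fi j)) (c.π.app k) := fun j => by
    refine IsPullback.of_right ?_ (pullback.lift_fst _ _ _) (IsPullback.of_hasPullback _ _).flip
    rw [pullback.lift_snd, c.w]
    exact hsq j
  obtain ⟨F, hF, hFE⟩ := HTopV.exists_isStandardV_refining (𝟙 c.pt) hV.isVCover
  have hlim : HTop.HasValLift (PreZeroHypercover.singleton.{u} (pullback.fst (c.π.app k) f₀)) := by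
    intro R _ _ t
    obtain ⟨W, i1, i2, φ, hφ, j₀, g', hg'⟩ := hF.lift R t
    obtain ⟨j, b, hb⟩ := hFE j₀
    have hb' : (g' ≫ b) ≫ V.f j = Spec.map φ ≫ t := by
      rw [Category.assoc, hb, Category.comp_id, hg']
    obtain ⟨m, rfl⟩ : ∃ m : κ, idx m = j := ⟨⟨eι j⟩, eι.symm_apply_apply j⟩
    let l : Spec W ⟶ P m := (g' ≫ b) ≫ pullback.lift (V.f (idx m) ≫ c.π.app k) (g (idx m)) (by
      rw [Category.assoc, c.w]; exact (hsq _).w.symm)
    refine ⟨W, i1, i2, φ, hφ, PUnit.unit,
      (pullback.lift (Spec.map φ ≫ t) (l ≫ Sigma.ι P m) ?_ : Spec W ⟶ pullback (c.π.app k) f₀),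
      pullback.lift_fst _ _ _⟩
    rw [Category.assoc (l), Sigma.ι_desc, Category.assoc (g' ≫ b), pullback.lift_fst]
    exact (congrArg (· ≫ c.π.app k) hb').symm.trans (Category.assoc _ _ _)
  obtain ⟨o, ho⟩ := Groth.Agent.S14785.exists_stage D c hc f₀ (𝟙 (D.obj k))
    (pullback.fst (c.π.app k) f₀) (𝟙 c.pt) (c.π.app k) (pullback.snd (c.π.app k) f₀)
    (IsPullback.id_vert _)
    (IsPullback.of_hasPullback _ _).flip (SubtrLib.univSSubtrusive_of_hasValLift _ hlim)
  let W : PreZeroHypercover.{w} (D.obj o.left) :=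
    { I₀ := V.I₀
      X := fun j => pullback (D.map (o.hom ≫ a j)) (fi j)
      f := fun j => pullback.fst _ _ }
  have hWlfp : ∀ j, LocallyOfFinitePresentation (W.f j) := fun j =>
    MorphismProperty.pullback_fst (P := @LocallyOfFinitePresentation) _ _ (hfi j)
  have hWV : HTop.IsStandardV W := by
    refine ⟨inferInstance, hV.finite_index, fun j => inferInstanceAs (IsAffine (pullback _ _)), ?_⟩
    intro R _ _ t
    have ht : (t ≫ D.map o.hom) ≫ 𝟙 _ = t ≫ D.map o.hom := Category.comp_id _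
    obtain ⟨V', i1, i2, i3, z, b, hb, hzb⟩ := (SubtrLib.univSSubtrusive_iff_valLift _).mp ho R
      (pullback.lift (t ≫ D.map o.hom) t ht : Spec R ⟶ LimDesc.stage D (𝟙 (D.obj k)) o)
    obtain ⟨φ, rfl⟩ := Spec.map_surjective b
    have hext : HTop.IsExtVal R (CommRingCat.of V') φ := by
      refine HTopV.isExtVal_of_apply φ ?_ ?_
      · obtain ⟨q, hq⟩ := hb.surj ⟨⊥, Ideal.isPrime_bot⟩
        apply PrimeSpectrum.ext
        refine le_antisymm ?_ bot_le
        refine le_of_le_of_eq ?_ (congrArg PrimeSpectrum.asIdeal hq)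
        exact Ideal.comap_mono bot_le
      · obtain ⟨q, hq⟩ := hb.surj (IsLocalRing.closedPoint R)
        apply PrimeSpectrum.ext
        refine le_antisymm (IsLocalRing.le_maximalIdeal (Spec.map φ _).2.ne_top) ?_
        refine le_of_eq_of_le (congrArg PrimeSpectrum.asIdeal hq).symm ?_
        exact Ideal.comap_mono (IsLocalRing.le_maximalIdeal q.2.ne_top)
    let x : Spec (CommRingCat.of V') ⟶ ∐ P := z ≫ LimDesc.toBase D (f₀ ≫ 𝟙 _) o
    obtain ⟨m, v, hv⟩ := (sigmaOpenCover P).exists_eq (x (IsLocalRing.closedPoint _))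
    obtain ⟨l, hl⟩ := HTopV.exists_fac_of_closedPoint_mem x (Sigma.ι P m) ⟨v, hv⟩
    have h1 := congrArg (· ≫ LimDesc.toBase D (𝟙 (D.obj k)) o) hzb
    have h2 := congrArg (· ≫ LimDesc.toStage D (𝟙 (D.obj k)) o) hzb
    simp only [Category.assoc, LimDesc.stageMap_toBase, LimDesc.stageMap_toStage,
      LimDesc.lift_toBase, LimDesc.lift_toStage] at h1 h2
    refine ⟨CommRingCat.of V', inferInstanceAs (IsDomain V'), inferInstanceAs (ValuationRing V'), φ, hext,
      idx m, (pullback.lift (Spec.map φ ≫ t) (l ≫ pullback.snd _ _) ?_ :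
        Spec (CommRingCat.of V') ⟶ pullback (D.map (o.hom ≫ a (idx m))) (fi (idx m))), pullback.lift_fst _ _ _⟩
    rw [Category.assoc (l), ← pullback.condition, Functor.map_comp, Category.assoc,
      ← reassoc_of% h1]
    rw [show z ≫ LimDesc.toBase D (f₀ ≫ 𝟙 _) o ≫ f₀ ≫ D.map (a (idx m)) =
      x ≫ f₀ ≫ D.map (a (idx m)) from (Category.assoc _ _ _).symm, ← hl, Category.assoc,
      Sigma.ι_desc_assoc]
  refine ⟨o.left, W, ⟨inferInstance, hV.finite_index, fun j => inferInstanceAs (IsAffine (pullback _ _)),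
    hWlfp, HTopV.isVCover_of_isStandardV hWV⟩, Equiv.refl _, ?_⟩
  have hsqo : ∀ j, IsPullback (pullback.lift (V.f j ≫ c.π.app o.left) (g j) (by
      rw [Category.assoc, c.w]; exact (hsq j).w.symm)) (V.f j) (W.f j) (c.π.app o.left) := fun j => by
    refine IsPullback.of_right ?_ (pullback.lift_fst _ _ _) (IsPullback.of_hasPullback _ _).flip
    rw [pullback.lift_snd, c.w]
    exact hsq j
  exact ⟨fun j => (hsqo j).flip.isoPullback, fun j => (hsqo j).flip.isoPullback_hom_fst⟩

end Groth.Agent.HTopVPh
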