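import Mathlib
import Groth.Agent.HTopVPh.Cover
import Groth.Agent.HTopVLim.Sheaf
import Groth.Agent.HTopV.SquareSheaf

set_option autoImplicit false
set_option backward.isDefEq.respectTransparency false
set_option backward.isDefEq.respectTransparency.types false

/-!
h coverings of affine schemes by proper surjective morphisms of finite presentation; h sheaves over a base.
-/

universe w w' u

open CategoryTheory CategoryTheory.Limits AlgebraicGeometry TopologicalSpace Opposite

namespace Groth.Agent.HTopVPh

theorem exists_proper_refinement {X : Scheme.{u}} [IsAffine X] (E : PreZeroHypercover.{w} X)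
    (hE : HTop.IsHCover E) :
    ∃ (Y : Scheme.{u}) (g : Y ⟶ X) (n : ℕ) (V : Fin n → Y.Opens), IsProper g ∧ Surjective g ∧
      LocallyOfFinitePresentation g ∧ (∀ j, IsAffineOpen (V j)) ∧ ⨆ j, V j = ⊤ ∧
      ∀ j, ∃ (i : E.I₀) (h : ((V j : Y.Opens) : Scheme.{u}) ⟶ E.X i), h ≫ E.f i = (V j).ι ≫ g := by
  classical
  obtain ⟨G, hG, hGE⟩ := HTopV.exists_isStandardV_refining (𝟙 X) hE.2
  obtain ⟨Y, g, hg, hgs, hgf, hloc⟩ := exists_locRef hE.1 hG hGE
  haveI : CompactSpace Y := QuasiCompact.compactSpace_of_compactSpace g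
  choose O o ho hyo k a ha using hloc
  haveI := ho
  choose W hW hyW hWo using fun y : Y =>
    exists_isAffineOpen_mem_and_subset (x := y) (U := (o y).opensRange) (hyo y)
  obtain ⟨s, hs⟩ := isCompact_univ.elim_finite_subcover (fun y => (W y : Set Y))
    (fun y => (W y).2) (fun y _ => Set.mem_iUnion.mpr ⟨y, hyW y⟩)
  obtain ⟨n, ⟨e⟩⟩ := Finite.exists_equiv_fin {y // y ∈ s}
  refine ⟨Y, g, n, fun m => W (e.symm m).1, hg, hgs, hgf, fun m => hW _,
    top_le_iff.mp fun y _ => ?_, fun m => ?_⟩
  · obtain ⟨z, hz, hyz⟩ := Set.mem_iUnion₂.mp (hs (Set.mem_univ y))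
    refine Opens.mem_iSup.mpr ⟨e ⟨z, hz⟩, ?_⟩
    show y ∈ W (e.symm (e ⟨z, hz⟩)).1
    rw [e.symm_apply_apply]
    exact hyz
  · refine ⟨k (e.symm m).1, IsOpenImmersion.lift (o (e.symm m).1) (W (e.symm m).1).ι ?_ ≫ a (e.symm m).1, ?_⟩
    · rw [Scheme.Opens.range_ι]
      exact hWo _
    · rw [Category.assoc, ha, IsOpenImmersion.lift_fac_assoc]

theorem zariski_le_hTopology : Scheme.zariskiTopology.{u} ≤ HTop.hTopology := by
  intro X T hT
  obtain ⟨R, hR, hle⟩ := Precoverage.mem_toGrothendieck_iff_of_isStableUnderComposition.mp hT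
  obtain ⟨𝒰, rfl⟩ := Precoverage.mem_iff_exists_zeroHypercover.mp hR
  haveI : ∀ i, IsOpenImmersion (𝒰.f i) := fun i => Scheme.Cover.map_prop 𝒰 i
  refine GrothendieckTopology.superset_covering _ ((Sieve.generate_le_iff _ _).mpr hle)
    (Precoverage.generate_mem_toGrothendieck ?_)
  exact (HTop.presieve₀_mem_hPrecoverage_iff _).mpr ⟨fun i => inferInstance,
    HTopV.isVCover_of_isOpenImmersion _ fun x => Scheme.Cover.exists_eq 𝒰 x⟩

section

variable {S : Scheme.{u}} {F : (Over S)ᵒᵖ ⥤ Type w}

/-- The sieves on schemes whose pullbacks to `S`-schemes are covering for the finest topology making `F`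
a sheaf. -/
def finestBelow (F : (Over S)ᵒᵖ ⥤ Type w) : GrothendieckTopology Scheme.{u} where
  sieves Z := {T | ∀ (Y : Over S) (g : Y.left ⟶ Z),
    (Sieve.overEquiv Y).symm (T.pullback g) ∈ (Sheaf.finestTopologySingle F) Y}
  top_mem' Z Y g := by
    rw [Sieve.pullback_top]
    have e : (Sieve.overEquiv Y).symm ⊤ = ⊤ := by
      ext W a
      exact Iff.rfl
    rw [e]
    exact GrothendieckTopology.top_mem _ _
  pullback_stable' Z Z' T f hT Y g := by
    rw [← Sieve.pullback_comp]
    exact hT Y _
  transitive' Z T hT T' hT' Y g := by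
    refine GrothendieckTopology.transitive _ (hT Y g) _ fun W a ha => ?_
    rw [← Sieve.overEquiv_symm_pullback, ← Sieve.pullback_comp]
    have := hT' (show T.arrows (a.left ≫ g) from ha) W (𝟙 W.left)
    rwa [Sieve.pullback_id] at this

theorem isSheafFor_pullback_proper (h₁ : Presieve.IsSheaf (Scheme.zariskiTopology.over S) F)
    (h₂ : ∀ (U V : Over S) (f : V ⟶ U), IsAffine U.left → IsProper f.left → Surjective f.left →
      LocallyOfFinitePresentation f.left → Presieve.IsSheafFor F (Presieve.singleton f))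
    {Z X : Over S} (q : X ⟶ Z) (hp : IsProper q.left) (hs : Surjective q.left)
    (hf : LocallyOfFinitePresentation q.left) {Y : Over S} (g : Y ⟶ Z) :
    Presieve.IsSheafFor F ((Sieve.generate (Presieve.singleton q)).pullback g).arrows := by
  refine HTopV.isSheafFor_of_pullback h₁ (fun W => IsAffine W.left)
    HTopVLim.generate_affine_mem_over _ fun W k hW => ?_
  let X' : Over S := Over.mk (pullback.fst (k ≫ g).left q.left ≫ W.hom)
  let q' : X' ⟶ W := Over.homMk (pullback.fst (k ≫ g).left q.left) rfl
  let r : X' ⟶ X := Over.homMk (pullback.snd (k ≫ g).left q.left) (by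
    simp only [X', Over.mk_hom]
    rw [← Over.w q, ← pullback.condition_assoc, Over.w (k ≫ g)])
  have hr : r ≫ q = q' ≫ k ≫ g := by
    apply Over.OverMorphism.ext
    exact pullback.condition.symm
  have e : ((Sieve.generate (Presieve.singleton q)).pullback g).pullback k =
      Sieve.generate (Presieve.singleton q') := by
    rw [← Sieve.pullback_comp]
    refine Sieve.ext fun V a => ⟨?_, ?_⟩
    · rintro ⟨_, b, _, ⟨⟩, hb⟩
      refine ⟨_, Over.homMk (pullback.lift a.left b.left (congrArg CommaMorphism.left hb).symm)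
        ?_, _, Presieve.singleton_self _, ?_⟩
      · simp [X', Over.w a]
      · apply Over.OverMorphism.ext
        simp [q']
    · rintro ⟨_, b, _, ⟨⟩, rfl⟩
      refine ⟨_, b ≫ r, _, Presieve.singleton_self _, ?_⟩
      rw [Category.assoc, Category.assoc, hr]
  rw [e]
  exact (Presieve.isSheafFor_iff_generate _).mp (h₂ W X' q' hW
    (MorphismProperty.pullback_fst (P := @IsProper) _ _ hp)
    (MorphismProperty.pullback_fst (P := @Surjective) _ _ hs)
    (MorphismProperty.pullback_fst (P := @LocallyOfFinitePresentation) _ _ hf))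

theorem isSheaf_Jh_iff :
    Presieve.IsSheaf (HTop.Jh S) F ↔ (Presieve.IsSheaf (Scheme.zariskiTopology.over S) F ∧
      ∀ (U V : Over S) (f : V ⟶ U), IsAffine U.left → IsProper f.left → Surjective f.left →
        LocallyOfFinitePresentation f.left → Presieve.IsSheafFor F (Presieve.singleton f)) := by
  constructor
  · intro h
    refine ⟨fun X T hT => h T ?_, fun U V f _ hp hs hf => ?_⟩
    · rw [GrothendieckTopology.mem_over_iff] at hT ⊢
      exact zariski_le_hTopology _ hT
    · rw [Presieve.isSheafFor_iff_generate]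
      refine h _ ?_
      rw [GrothendieckTopology.mem_over_iff]
      have hcov : HTop.IsHCover (PreZeroHypercover.singleton.{u} f.left) := by
        haveI : Finite (PreZeroHypercover.singleton.{u} f.left).I₀ := inferInstanceAs (Finite PUnit)
        haveI : ∀ i, IsProper ((PreZeroHypercover.singleton.{u} f.left).f i) := fun _ => hp
        exact ⟨fun _ => hf, isVCover_of_isPhCover
          (HTopV.isPhCover_of_isProper_family (PreZeroHypercover.singleton.{u} f.left) fun x =>
            ⟨PUnit.unit, hs.surj x⟩)⟩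
      refine GrothendieckTopology.superset_covering _ ?_ (Precoverage.generate_mem_toGrothendieck
        ((HTop.presieve₀_mem_hPrecoverage_iff _).mpr hcov))
      rw [Sieve.generate_le_iff]
      rintro _ _ ⟨_⟩
      show (Sieve.overEquiv U (Sieve.generate (Presieve.singleton f))).arrows f.left
      rw [Sieve.overEquiv_iff]
      refine ⟨V, Over.homMk (𝟙 _) ?_, f, Presieve.singleton_self f, ?_⟩
      · simp
      · apply Over.OverMorphism.ext
        simp
  · rintro ⟨h₁, h₂⟩
    suffices hle : HTop.hTopology ≤ finestBelow F by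
      intro X T hT
      rw [GrothendieckTopology.mem_over_iff] at hT
      have := hle _ hT X (𝟙 X.left)
      rw [Sieve.pullback_id, OrderIso.symm_apply_apply] at this
      simpa using this X (𝟙 X)
    show HTop.hPrecoverage.toGrothendieck ≤ finestBelow F
    rw [Precoverage.toGrothendieck_eq_sInf]
    refine sInf_le fun Z R hR Y g W a => ?_
    obtain ⟨E, hE, rfl⟩ := PreZeroHypercoverFamily.mem_precoverage_iff.mp hR
    rw [← Sieve.overEquiv_symm_pullback, ← Sieve.pullback_comp]
    generalize a.left ≫ g = g'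
    clear g a Y
    refine HTopV.isSheafFor_of_pullback h₁ (fun V => IsAffine V.left)
      HTopVLim.generate_affine_mem_over _ fun V k hV => ?_
    haveI := hV
    rw [← Sieve.overEquiv_symm_pullback, ← Sieve.pullback_comp]
    generalize k.left ≫ g' = g
    set T := (Sieve.overEquiv V).symm ((Sieve.generate E.presieve₀).pullback g) with hT
    obtain ⟨P, p, n, A, hp, hps, hpf, hA, hAcov, hfac⟩ :=
      exists_proper_refinement (E.pullback₁ g) ⟨fun i =>
        MorphismProperty.pullback_fst (P := @LocallyOfFinitePresentation) _ _ (hE.1 i),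
        HTopV.isVCover_pullback₁ g hE.2⟩
    let P' : Over S := Over.mk (p ≫ V.hom)
    let σ : P' ⟶ V := Over.homMk p rfl
    have hmem : ∀ (j : Fin n),
        T (Over.homMk ((A j).ι ≫ p) : Over.mk (((A j).ι ≫ p) ≫ V.hom) ⟶ V) := fun j => by
      obtain ⟨i, b, hb⟩ := hfac j
      refine ⟨_, b ≫ pullback.snd g (E.f i), _, ⟨i⟩, ?_⟩
      exact (Category.assoc _ _ _).trans ((congrArg (b ≫ ·) pullback.condition.symm).trans
        ((Category.assoc _ _ _).symm.trans (congrArg (· ≫ g) hb)))
    have hcov : T.pullback σ ∈ (Scheme.zariskiTopology.over S) P' := by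
      rw [GrothendieckTopology.mem_over_iff]
      refine GrothendieckTopology.superset_covering _ ?_
        (P.openCoverOfIsOpenCover A hAcov).mem_grothendieckTopology
      rw [Sieve.generate_le_iff]
      rintro _ _ ⟨j⟩
      rw [Sieve.overEquiv_iff]
      show T (_ ≫ σ)
      let v : Over.mk ((A j).ι ≫ P'.hom) ⟶ Over.mk (((A j).ι ≫ p) ≫ V.hom) :=
        Over.homMk (𝟙 _) (by simp [P'])
      have := T.downward_closed (hmem j) v
      refine (congrArg (T.arrows (Y := _)) ?_).mpr this
      apply Over.OverMorphism.ext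
      simp [σ, v]
      exact (Category.id_comp _).symm
    refine Presieve.isSheafFor_trans F (Sieve.generate (Presieve.singleton σ)) T
      ((Presieve.isSheafFor_iff_generate _).mp (h₂ V P' σ hV hp hps hpf))
      (fun Y f _ => (isSheafFor_pullback_proper h₁ h₂ σ hp hps hpf f).isSeparatedFor) ?_
    rintro Y f ⟨_, b, _, ⟨⟩, rfl⟩
    rw [Sieve.pullback_comp]
    exact h₁ _ (GrothendieckTopology.pullback_stable _ _ hcov)

end

end Groth.Agent.HTopVPh
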